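import Mathlib.RingTheory.Smooth.NoetherianDescent
import Mathlib.RingTheory.Flat.FaithfullyFlat.Algebra
import Mathlib.RingTheory.Spectrum.Prime.Chevalley
import Mathlib.RingTheory.FinitePresentation
import Mathlib.RingTheory.RingHom.Flat
import Mathlib.RingTheory.Smooth.Flat
import Mathlib.RingTheory.Ideal.GoingDown
import Mathlib.LinearAlgebra.TensorProduct.Finiteness
/-!
Descent of finite type and finite presentation along faithfully flat etale ring maps `B → C`
(the "local on the source" direction: if `A → C` has the property, so does `A → B`).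
-/

universe u

open TensorProduct

namespace Groth.Agent.EtDescent

lemma exists_ideal_compl_range (R C₀ : Type u) [CommRing R] [CommRing C₀] [Algebra R C₀]
    [Algebra.Etale R C₀] :
    ∃ I : Ideal R, ∀ p : PrimeSpectrum R, I ≤ p.asIdeal ↔ p ∉ Set.range (PrimeSpectrum.comap (algebraMap R C₀)) := by
  have h : IsOpen (Set.range (PrimeSpectrum.comap (algebraMap R C₀))) :=
    (PrimeSpectrum.isOpenMap_comap_of_hasGoingDown_of_finitePresentation (R := R) (S := C₀)).isOpen_range
  obtain ⟨I, hI⟩ := (PrimeSpectrum.isClosed_iff_zeroLocus_ideal _).1 h.isClosed_compl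
  refine ⟨I, fun p => ?_⟩
  have := Set.ext_iff.1 hI p
  simpa [PrimeSpectrum.mem_zeroLocus] using this.symm

lemma map_compl_range_eq_top {R C₀ : Type u} [CommRing R] [CommRing C₀] [Algebra R C₀] {I : Ideal R}
    (hI : ∀ p : PrimeSpectrum R, I ≤ p.asIdeal ↔ p ∉ Set.range (PrimeSpectrum.comap (algebraMap R C₀))) :
    I.map (algebraMap R C₀) = ⊤ := by
  by_contra h
  obtain ⟨m, hm, hle⟩ := Ideal.exists_le_maximal _ h
  exact (hI (PrimeSpectrum.comap (algebraMap R C₀) ⟨m, hm.isPrime⟩)).1
    (Ideal.map_le_iff_le_comap.1 hle) ⟨⟨m, hm.isPrime⟩, rfl⟩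

/-- An element of an `S`-module killed by a flat `R`-algebra `C₀` is zero as soon as the open image
of `C₀` covers `Spec S`. -/
lemma eq_zero_of_one_tmul_eq_zero {R S C₀ : Type u} [CommRing R] [CommRing S] [CommRing C₀]
    [Algebra R S] [Algebra R C₀] [Module.Flat R C₀] {M : Type u} [AddCommGroup M] [Module R M]
    [Module S M] [IsScalarTower R S M] {I : Ideal R}
    (hI : ∀ p : PrimeSpectrum R, I ≤ p.asIdeal ↔ p ∉ Set.range (PrimeSpectrum.comap (algebraMap R C₀)))
    (hIS : I.map (algebraMap R S) = ⊤) (m : M) (hm : (1 : C₀) ⊗ₜ[R] m = 0) : m = 0 := by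
  let J : Ideal R := LinearMap.ker (LinearMap.toSpanSingleton R M m)
  let ι : (R ⧸ J) →ₗ[R] M := Submodule.liftQ J (LinearMap.toSpanSingleton R M m) le_rfl
  have hι : Function.Injective ι := by
    rw [← LinearMap.ker_eq_bot]; exact Submodule.ker_liftQ_eq_bot' _ _ rfl
  have h1 : (1 : C₀) ⊗ₜ[R] (1 : R ⧸ J) = 0 := by
    apply Module.Flat.lTensor_preserves_injective_linearMap ι hι
    rw [map_zero, LinearMap.lTensor_tmul]
    have : ι 1 = m := (Submodule.liftQ_apply J _ (1 : R)).trans (one_smul R m)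
    rw [this, hm]
  have hJ : J.map (algebraMap R C₀) = ⊤ := by
    rw [Ideal.eq_top_iff_one, ← Ideal.Quotient.eq_zero_iff_mem]
    let ψ : R ⧸ J →ₐ[R] C₀ ⧸ J.map (algebraMap R C₀) :=
      Ideal.Quotient.liftₐ J (Algebra.ofId R _) fun x hx => by
        rw [Algebra.ofId_apply, IsScalarTower.algebraMap_apply R C₀ (C₀ ⧸ J.map (algebraMap R C₀)),
          Ideal.Quotient.algebraMap_eq, Ideal.Quotient.eq_zero_iff_mem]
        exact Ideal.mem_map_of_mem _ hx
    have := congrArg (Algebra.TensorProduct.lift (Ideal.Quotient.mkₐ R (J.map (algebraMap R C₀))) ψ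
      (fun _ _ => Commute.all _ _)) h1
    simpa using this
  have hrad : I ≤ J.radical := by
    rw [J.radical_eq_sInf]
    refine le_sInf fun p ⟨hp, hpp⟩ => (hI ⟨p, hpp⟩).2 ?_
    rintro ⟨q, hq⟩
    refine q.isPrime.ne_top (top_le_iff.1 ?_)
    rw [← hJ, Ideal.map_le_iff_le_comap]
    exact hp.trans (le_of_eq (congrArg PrimeSpectrum.asIdeal hq).symm)
  have hJS : J.map (algebraMap R S) = ⊤ := by
    rw [← Ideal.radical_eq_top, eq_top_iff, ← hIS]
    exact (Ideal.map_mono hrad).trans (Ideal.map_radical_le _)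
  let Ann : Ideal S := LinearMap.ker (LinearMap.toSpanSingleton S M m)
  have : J.map (algebraMap R S) ≤ Ann := Ideal.map_le_iff_le_comap.2 fun r hr => by
    change algebraMap R S r • m = 0
    rw [algebraMap_smul]; exact hr
  have h2 : (1 : S) ∈ Ann := this (hJS ▸ Submodule.mem_top)
  simpa [Ann] using h2

/-- Finite type descends along faithfully flat etale maps on the source. -/
theorem finiteType_of_etale (A B C : Type u) [CommRing A] [CommRing B] [CommRing C] [Algebra A B]
    [Algebra B C] [Algebra A C] [IsScalarTower A B C] [Algebra.Etale B C] [Module.FaithfullyFlat B C]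
    [Algebra.FiniteType A C] : Algebra.FiniteType A B := by
  classical
  obtain ⟨B₀, C₀, _, _, hB₀, _, ⟨e⟩⟩ := Algebra.Etale.exists_subalgebra_fg A B C
  obtain ⟨I, hI⟩ := exists_ideal_compl_range B₀ C₀
  -- generators
  let Φ : B ⊗[B₀] C₀ →ₐ[B] C := e.symm.toAlgHom
  have hIB : I.map (algebraMap B₀ B) = ⊤ := by
    apply Ideal.map_injective_of_faithfullyFlat (A := B) (B := C)
    change (I.map (algebraMap B₀ B)).map (algebraMap B C) = (⊤ : Ideal B).map (algebraMap B C)
    rw [Ideal.map_top, Ideal.map_map, eq_top_iff]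
    calc (⊤ : Ideal C) = ((I.map (algebraMap B₀ C₀)).map
          (Φ.toRingHom.comp Algebra.TensorProduct.includeRight.toRingHom)) := by
            rw [map_compl_range_eq_top hI, Ideal.map_top]
      _ ≤ _ := by
        rw [Ideal.map_map]
        refine le_of_eq (congrArg (fun f => Ideal.map f I) (RingHom.ext fun r => ?_))
        have : (1 : B) ⊗ₜ[B₀] (algebraMap B₀ C₀ r) = algebraMap B₀ B r ⊗ₜ[B₀] (1 : C₀) := by
          rw [Algebra.algebraMap_eq_smul_one, Algebra.algebraMap_eq_smul_one, tmul_smul, smul_tmul']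
        simp only [RingHom.comp_apply, AlgHom.toRingHom_eq_coe, RingHom.coe_coe,
          Algebra.TensorProduct.includeRight_apply, this]
        exact Φ.commutes (algebraMap B₀ B r)
  obtain ⟨t, htop⟩ := (Algebra.FiniteType.out : (⊤ : Subalgebra A C).FG)
  choose rep hrep using fun x : C => TensorProduct.exists_finset (R := B₀) (e x)
  obtain ⟨k, a, x, ha⟩ : ∃ (k : ℕ) (a : Fin k → B) (x : Fin k → I),
      ∑ j, a j * algebraMap B₀ B (x j) = 1 := by
    have h1 : (1 : B) ∈ Ideal.span (algebraMap B₀ B '' (I : Set B₀)) := by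
      have := hIB; rw [Ideal.map] at this; rw [this]; trivial
    obtain ⟨k, a, x, h⟩ := Submodule.mem_span_set'.1 h1
    choose y hy hy' using fun j => (x j).2
    exact ⟨k, a, fun j => ⟨y j, hy j⟩, by simpa [hy'] using h⟩
  let F : Finset B := (t.biUnion fun c => (rep c).image Prod.fst) ∪ Finset.univ.image a
  let B₂ : Subalgebra A B := B₀ ⊔ Algebra.adjoin A (F : Set B)
  have hB₂ : B₂.FG := hB₀.sup ⟨F, rfl⟩
  suffices hall : B₂ = ⊤ from ⟨hall ▸ hB₂⟩
  let T : Submodule B₀ B :=
    { carrier := B₂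
      add_mem' := B₂.add_mem
      zero_mem' := B₂.zero_mem
      smul_mem' := fun r z hz => B₂.mul_mem ((le_sup_left : B₀ ≤ B₂) r.2) hz }
  have hgen : ∀ z : B ⊗[B₀] C₀, z ∈ LinearMap.range (T.subtype.rTensor C₀) := by
    let R' : Subalgebra A (B ⊗[B₀] C₀) :=
      { carrier := LinearMap.range (T.subtype.rTensor C₀)
        add_mem' := Submodule.add_mem _
        mul_mem' := by
          rintro _ _ ⟨u, rfl⟩ ⟨v, rfl⟩
          induction u using TensorProduct.induction_on with
          | zero => simp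
          | add u u' hu hu' => rw [map_add, add_mul]; exact Submodule.add_mem _ hu hu'
          | tmul p c =>
            induction v using TensorProduct.induction_on with
            | zero => simp
            | add v v' hv hv' => rw [map_add, mul_add]; exact Submodule.add_mem _ hv hv'
            | tmul q d => exact ⟨(⟨p.1 * q.1, B₂.mul_mem p.2 q.2⟩ : T) ⊗ₜ[B₀] (c * d), by simp⟩
        algebraMap_mem' := fun r => ⟨(⟨algebraMap A B r, B₂.algebraMap_mem r⟩ : T) ⊗ₜ[B₀] 1, by simp⟩ }
    intro z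
    have hle : ⊤ ≤ R'.comap ((e : C →ₐ[B] B ⊗[B₀] C₀).restrictScalars A) := by
      rw [← htop, Algebra.adjoin_le_iff]
      intro c hc
      change e c ∈ LinearMap.range (T.subtype.rTensor C₀)
      rw [hrep c]
      refine Submodule.sum_mem _ fun i hi => ⟨(⟨i.1, (le_sup_right : _ ≤ B₂)
        (Algebra.subset_adjoin (by simp only [F, Finset.coe_union, Set.mem_union, Finset.mem_coe, Finset.mem_biUnion, Finset.mem_image, Finset.mem_univ, true_and]; exact Or.inl ⟨c, hc, i, hi, rfl⟩))⟩ : T) ⊗ₜ[B₀] i.2, by simp⟩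
    have := hle (show e.symm z ∈ (⊤ : Subalgebra A C) from Algebra.mem_top)
    change e (e.symm z) ∈ LinearMap.range (T.subtype.rTensor C₀) at this
    rwa [AlgEquiv.apply_symm_apply] at this
  rw [eq_top_iff]
  intro b _
  let B₂' : Subalgebra B₀ B :=
    { carrier := B₂
      add_mem' := B₂.add_mem
      mul_mem' := B₂.mul_mem
      algebraMap_mem' := fun r => (le_sup_left : B₀ ≤ B₂) r.2 }
  let T' : Submodule B₂' B :=
    { carrier := B₂
      add_mem' := B₂.add_mem
      zero_mem' := B₂.zero_mem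
      smul_mem' := fun r z hz => B₂.mul_mem r.2 hz }
  have hIS : I.map (algebraMap B₀ B₂') = ⊤ := by
    rw [Ideal.eq_top_iff_one]
    have e1 : (1 : B₂') = ∑ j, (⟨a j, (le_sup_right : _ ≤ B₂) (Algebra.subset_adjoin (by simp [F]))⟩ : B₂') * algebraMap B₀ B₂' (x j) := by
      apply Subtype.ext; simp [← ha]
    rw [e1]
    exact Ideal.sum_mem _ fun j _ => Ideal.mul_mem_left _ _ (Ideal.mem_map_of_mem _ (x j).2)
  have hzero : (1 : C₀) ⊗ₜ[B₀] (T'.mkQ b) = 0 := by
    obtain ⟨w, hw⟩ := hgen (b ⊗ₜ[B₀] 1)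
    have := congrArg ((TensorProduct.comm B₀ _ _).toLinearMap ∘ₗ (T'.mkQ.restrictScalars B₀).rTensor C₀) hw
    have h0 : (T'.mkQ.restrictScalars B₀).rTensor C₀ (T.subtype.rTensor C₀ w) = 0 := by
      rw [← LinearMap.rTensor_comp_apply]
      have : T'.mkQ.restrictScalars B₀ ∘ₗ T.subtype = 0 := LinearMap.ext fun z =>
        (Submodule.Quotient.mk_eq_zero T').2 z.2
      rw [this, LinearMap.rTensor_zero]; rfl
    simpa [h0] using this.symm
  exact (Submodule.Quotient.mk_eq_zero T').1 (eq_zero_of_one_tmul_eq_zero (S := B₂') hI hIS _ hzero)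

set_option synthInstance.maxHeartbeats 200000 in
/-- Finite presentation descends along faithfully flat etale maps on the source. -/
theorem finitePresentation_of_etale (A B C : Type u) [CommRing A] [CommRing B] [CommRing C]
    [Algebra A B] [Algebra B C] [Algebra A C] [IsScalarTower A B C] [Algebra.Etale B C]
    [Module.FaithfullyFlat B C] [Algebra.FinitePresentation A C] :
    Algebra.FinitePresentation A B := by
  classical
  haveI := finiteType_of_etale A B C
  obtain ⟨B₁, C₀, _, _, hB₁, _, ⟨e⟩⟩ := Algebra.Etale.exists_subalgebra_fg ℤ B C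
  haveI : Algebra.FiniteType ℤ B₁ := (Subalgebra.fg_iff_finiteType B₁).1 hB₁
  obtain ⟨I, hI⟩ := exists_ideal_compl_range B₁ C₀
  obtain ⟨k, f, hf⟩ := Algebra.FiniteType.iff_quotient_mvPolynomial''.1 ‹Algebra.FiniteType A B›
  obtain ⟨l, g, hg⟩ := Algebra.FiniteType.iff_quotient_mvPolynomial''.1 ‹Algebra.FiniteType ℤ B₁›
  choose tilde htilde using hf
  let φ : MvPolynomial (Fin l) ℤ →+* MvPolynomial (Fin k) A :=
    (MvPolynomial.aeval fun i => tilde ((g (MvPolynomial.X i) : B₁) : B)).toRingHom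
  have hφ : f.toRingHom.comp φ = B₁.val.toRingHom.comp g.toRingHom :=
    MvPolynomial.ringHom_ext (fun r => by simp) fun i => by simp [φ, htilde]
  obtain ⟨rels, hrels⟩ := IsNoetherian.noetherian (RingHom.ker g.toRingHom)
  let K' : Ideal (MvPolynomial (Fin k) A) := Ideal.span (φ '' (rels : Set (MvPolynomial (Fin l) ℤ)))
  have hK'fg : K'.FG := Submodule.fg_span (rels.finite_toSet.image _)
  have hK'le : K' ≤ RingHom.ker f.toRingHom := by
    rw [Ideal.span_le]; rintro _ ⟨q, hq, rfl⟩
    have hq' : g q = 0 := by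
      have h' : q ∈ RingHom.ker g.toRingHom := hrels ▸ Ideal.subset_span hq
      exact h'
    change f (φ q) = 0
    have := RingHom.congr_fun hφ q
    simp only [RingHom.comp_apply, AlgHom.toRingHom_eq_coe, RingHom.coe_coe] at this
    rw [this, hq']; simp
  let ψ : B₁ →+* MvPolynomial (Fin k) A ⧸ K' :=
    RingHom.liftOfRightInverse g.toRingHom (Function.surjInv hg) (Function.rightInverse_surjInv hg)
      ⟨(Ideal.Quotient.mk K').comp φ, by
        intro q hq
        rw [RingHom.mem_ker, RingHom.comp_apply, Ideal.Quotient.eq_zero_iff_mem]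
        exact (Ideal.map_le_iff_le_comap.1 (le_of_eq
          (by rw [← hrels, Ideal.map_span] : (RingHom.ker g.toRingHom).map φ = K'))) hq⟩
  have hψ : ∀ q, ψ (g q) = Ideal.Quotient.mk K' (φ q) := fun q =>
    RingHom.liftOfRightInverse_comp_apply g.toRingHom (Function.surjInv hg)
      (Function.rightInverse_surjInv hg) _ q
  letI : Algebra B₁ (MvPolynomial (Fin k) A ⧸ K') := ψ.toAlgebra
  let π : MvPolynomial (Fin k) A ⧸ K' →ₐ[A] B := Ideal.Quotient.liftₐ K' f fun x hx => hK'le hx
  have hπ : ∀ r : B₁, π (algebraMap B₁ (MvPolynomial (Fin k) A ⧸ K') r) = (r : B) := by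
    intro r
    obtain ⟨q, rfl⟩ := hg r
    change π (ψ (g q)) = _
    rw [hψ]
    exact RingHom.congr_fun hφ q
  haveI hP'fp : Algebra.FinitePresentation A (MvPolynomial (Fin k) A ⧸ K') :=
    Algebra.FinitePresentation.quotient hK'fg
  let P := MvPolynomial (Fin k) A ⧸ K'
  let πB : P →ₐ[B₁] B := { π.toRingHom with commutes' := hπ }
  have hπsurj : Function.Surjective πB := fun b => ⟨Ideal.Quotient.mk K' (tilde b), htilde b⟩
  let D := P ⊗[B₁] C₀
  haveI : Algebra.FinitePresentation A D := Algebra.FinitePresentation.trans A P D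
  let Pr : D →ₐ[A] C := AlgHom.comp ((e.symm : B ⊗[B₁] C₀ →ₐ[B] C).restrictScalars A)
    { (Algebra.TensorProduct.map πB (AlgHom.id B₁ C₀)).toRingHom with
      commutes' := fun r => by
        change πB (algebraMap A P r) ⊗ₜ[B₁] (1 : C₀) = algebraMap A B r ⊗ₜ[B₁] 1
        rw [show πB (algebraMap A P r) = algebraMap A B r from π.commutes r] }
  have hPr : ∀ z, Pr z = e.symm (Algebra.TensorProduct.map πB (AlgHom.id B₁ C₀) z) := fun z => rfl
  have hPrsurj : Function.Surjective Pr := e.symm.surjective.comp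
    (LinearMap.rTensor_surjective C₀ (g := πB.toLinearMap) hπsurj)
  obtain ⟨gens, hgens⟩ := Algebra.FinitePresentation.ker_fG_of_surjective (R := A) (A := D) (B := C) Pr hPrsurj
  have hmemK : ∀ z, z ∈ RingHom.ker Pr.toRingHom →
      z ∈ (RingHom.ker πB).map (Algebra.TensorProduct.includeLeft : P →ₐ[B₁] D) := by
    intro z hz
    rw [← Algebra.TensorProduct.rTensor_ker (C := C₀) πB hπsurj]
    have h' : Pr z = 0 := hz
    rw [hPr] at h'
    exact (map_eq_zero_iff _ e.symm.injective).1 h'
  have hspan : ∀ z, z ∈ RingHom.ker Pr.toRingHom → ∃ T : Finset P, (T : Set P) ⊆ RingHom.ker πB ∧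
      z ∈ (Ideal.span (T : Set P)).map (Algebra.TensorProduct.includeLeft : P →ₐ[B₁] D) := by
    intro z hz
    obtain ⟨T, hT, hzT⟩ := Submodule.mem_span_finite_of_mem_span (hmemK z hz)
    obtain ⟨T', hT', hTT'⟩ := Finset.subset_set_image_iff.1 hT
    refine ⟨T', hT', ?_⟩
    rw [Ideal.map_span]
    refine Ideal.span_mono ?_ hzT
    rw [← hTT', Finset.coe_image]
  choose T hT hTz using hspan
  -- a lift of a partition of unity for `I`
  have hIB : I.map (algebraMap B₁ B) = ⊤ := by
    apply Ideal.map_injective_of_faithfullyFlat (A := B) (B := C)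
    change (I.map (algebraMap B₁ B)).map (algebraMap B C) = (⊤ : Ideal B).map (algebraMap B C)
    rw [Ideal.map_top, Ideal.map_map, eq_top_iff]
    calc (⊤ : Ideal C) = ((I.map (algebraMap B₁ C₀)).map
          ((e.symm : B ⊗[B₁] C₀ →ₐ[B] C).toRingHom.comp Algebra.TensorProduct.includeRight.toRingHom)) := by
            rw [map_compl_range_eq_top hI, Ideal.map_top]
      _ ≤ _ := by
        rw [Ideal.map_map]
        refine le_of_eq (congrArg (fun f => Ideal.map f I) (RingHom.ext fun r => ?_))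
        have : (1 : B) ⊗ₜ[B₁] (algebraMap B₁ C₀ r) = algebraMap B₁ B r ⊗ₜ[B₁] (1 : C₀) := by
          rw [Algebra.algebraMap_eq_smul_one, Algebra.algebraMap_eq_smul_one, tmul_smul, smul_tmul']
        simp only [RingHom.comp_apply, AlgHom.toRingHom_eq_coe, RingHom.coe_coe,
          Algebra.TensorProduct.includeRight_apply, this]
        exact (e.symm : B ⊗[B₁] C₀ →ₐ[B] C).commutes (algebraMap B₁ B r)
  obtain ⟨k0, hk0, hk0'⟩ : ∃ k0 : P, πB k0 = 0 ∧ 1 - k0 ∈ I.map (algebraMap B₁ P) := by
    have h1 : (1 : B) ∈ (I.map (algebraMap B₁ P)).map πB.toRingHom := by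
      rw [Ideal.map_map, show (πB.toRingHom).comp (algebraMap B₁ P) = algebraMap B₁ B from
        RingHom.ext πB.commutes, hIB]
      trivial
    obtain ⟨w, hw, hw'⟩ := (Ideal.mem_map_iff_of_surjective πB.toRingHom hπsurj).1 h1
    exact ⟨1 - w, by simp [show πB w = 1 from hw'], by simpa using hw⟩
  let K'' : Ideal P := Ideal.span ((gens.attach.biUnion fun z => T z.1
    (hgens ▸ Ideal.subset_span z.2) : Finset P) ∪ {k0} : Set P)
  have hK''fg : K''.FG := Submodule.fg_span ((Finset.finite_toSet _).union (Set.finite_singleton _))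
  suffices hK : RingHom.ker πB = K'' by
    refine Algebra.FinitePresentation.of_surjective (f := π) hπsurj ?_
    change (RingHom.ker πB).FG
    rw [hK]; exact hK''fg
  refine le_antisymm (fun m hm => ?_) ?_
  · have hK''D : RingHom.ker Pr.toRingHom ≤ K''.map (Algebra.TensorProduct.includeLeft : P →ₐ[B₁] D) := by
      rw [← hgens, Ideal.span_le]
      intro z hz
      refine Ideal.map_mono ?_ (hTz z (hgens ▸ Ideal.subset_span hz))
      refine Ideal.span_le.2 fun p hp => Ideal.subset_span (Or.inl ?_)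
      simp only [Finset.coe_biUnion, Set.mem_iUnion]
      exact ⟨⟨z, hz⟩, Finset.mem_attach _ _, hp⟩
    have hm' : m ⊗ₜ[B₁] (1 : C₀) ∈ K''.map (Algebra.TensorProduct.includeLeft : P →ₐ[B₁] D) := by
      apply hK''D
      change Pr (m ⊗ₜ[B₁] (1 : C₀)) = 0
      rw [hPr, Algebra.TensorProduct.map_tmul, show πB m = 0 from hm, zero_tmul, map_zero]
    have h0 : Algebra.TensorProduct.map (Ideal.Quotient.mkₐ B₁ K'') (AlgHom.id B₁ C₀) (m ⊗ₜ[B₁] (1 : C₀)) = 0 := by
      have hle : K''.map (Algebra.TensorProduct.includeLeft : P →ₐ[B₁] D) ≤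
          RingHom.ker (Algebra.TensorProduct.map (Ideal.Quotient.mkₐ B₁ K'') (AlgHom.id B₁ C₀)) := by
        rw [Ideal.map_le_iff_le_comap]
        intro p hp
        rw [Ideal.mem_comap, RingHom.mem_ker, Algebra.TensorProduct.includeLeft_apply,
          Algebra.TensorProduct.map_tmul, show Ideal.Quotient.mkₐ B₁ K'' p = 0 from
            Ideal.Quotient.eq_zero_iff_mem.2 hp, zero_tmul]
      exact hle hm'
    have hIQ : Ideal.map ((Ideal.Quotient.mk K'').comp (algebraMap B₁ P)) I = ⊤ := by
      rw [Ideal.eq_top_iff_one]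
      have h1 := Ideal.mem_map_of_mem (Ideal.Quotient.mk K'') hk0'
      rw [map_sub, map_one, show Ideal.Quotient.mk K'' k0 = 0 from Ideal.Quotient.eq_zero_iff_mem.2
        (Ideal.subset_span (Or.inr rfl)), sub_zero, Ideal.map_map] at h1
      exact h1
    refine Ideal.Quotient.eq_zero_iff_mem.1
      (eq_zero_of_one_tmul_eq_zero (S := (P ⧸ K'')) (C₀ := C₀) hI (by exact hIQ) (Ideal.Quotient.mk K'' m) ?_)
    have := congrArg (TensorProduct.comm B₁ (P ⧸ K'') C₀) h0
    simpa using this
  · rw [Ideal.span_le]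
    rintro p (hp | rfl)
    · simp only [Finset.coe_biUnion, Set.mem_iUnion] at hp
      obtain ⟨z, -, hp⟩ := hp
      exact hT _ _ hp
    · exact hk0

end Groth.Agent.EtDescent
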