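import Mathlib.AlgebraicGeometry.Morphisms.Etale
import Mathlib.AlgebraicGeometry.Morphisms.UniversallyOpen
import Mathlib.AlgebraicGeometry.Morphisms.QuasiFinite
import Mathlib.RingTheory.Etale.Kaehler
import Mathlib.RingTheory.Flat.FaithfullyFlat.Basic
import Mathlib.RingTheory.Smooth.Fiber
import Groth.Agent.EtDescent.Ring
/-!
Properties of morphisms of schemes descend along surjective etale maps on the source.
-/

set_option backward.isDefEq.respectTransparency.types false

universe u

open CategoryTheory CategoryTheory.Limits AlgebraicGeometry TensorProduct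

namespace Groth.Agent.EtDescent

/-- If `A → C` is flat and `B → C` is faithfully flat then `A → B` is flat. -/
theorem flat_of_faithfullyFlat (A B C : Type u) [CommRing A] [CommRing B] [CommRing C] [Algebra A B]
    [Algebra B C] [Algebra A C] [IsScalarTower A B C] [Module.FaithfullyFlat B C] [Module.Flat A C] :
    Module.Flat A B := by
  rw [Module.Flat.iff_lTensor_preserves_injective_linearMap]
  intro M N _ _ _ _ i hi
  change Function.Injective (AlgebraTensorModule.lTensor B B i)
  rw [← Module.FaithfullyFlat.lTensor_injective_iff_injective B C]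
  have e : (AlgebraTensorModule.cancelBaseChange A B B C N).toLinearMap ∘ₗ
      (AlgebraTensorModule.lTensor B B i).lTensor C =
      (AlgebraTensorModule.lTensor B C i) ∘ₗ (AlgebraTensorModule.cancelBaseChange A B B C M).toLinearMap :=
    TensorProduct.ext (LinearMap.ext fun c => TensorProduct.AlgebraTensorModule.ext fun b m => by simp)
  intro x y hxy
  apply (AlgebraTensorModule.cancelBaseChange A B B C M).injective
  apply Module.Flat.lTensor_preserves_injective_linearMap (M := C) i hi
  have := congrArg (AlgebraTensorModule.cancelBaseChange A B B C N) hxy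
  exact ((LinearMap.congr_fun e x).symm.trans this).trans (LinearMap.congr_fun e y)

theorem formallyUnramified_of_etale (A B C : Type u) [CommRing A] [CommRing B] [CommRing C]
    [Algebra A B] [Algebra B C] [Algebra A C] [IsScalarTower A B C] [Algebra.Etale B C]
    [Module.FaithfullyFlat B C] [Algebra.FormallyUnramified A C] :
    Algebra.FormallyUnramified A B := by
  rw [Algebra.formallyUnramified_iff] at *
  have : Subsingleton (C ⊗[B] Ω[B⁄A]) :=
    (KaehlerDifferential.tensorKaehlerEquivOfFormallyEtale A B C).toEquiv.subsingleton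
  exact Module.FaithfullyFlat.lTensor_reflects_triviality B C Ω[B⁄A]

theorem etale_of_etale (A B C : Type u) [CommRing A] [CommRing B] [CommRing C]
    [Algebra A B] [Algebra B C] [Algebra A C] [IsScalarTower A B C] [Algebra.Etale B C]
    [Module.FaithfullyFlat B C] [Algebra.Etale A C] : Algebra.Etale A B :=
  haveI := flat_of_faithfullyFlat A B C
  haveI := formallyUnramified_of_etale A B C
  haveI := finitePresentation_of_etale A B C
  .of_formallyUnramified_of_flat

/-- `Q` descends along faithfully flat etale maps on the source. -/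
def DescendsEtSource (Q : ∀ {R S : Type u} [CommRing R] [CommRing S], (R →+* S) → Prop) : Prop :=
  ∀ ⦃A B C : Type u⦄ [CommRing A] [CommRing B] [CommRing C] (f : A →+* B) (g : B →+* C),
    g.Etale → g.FaithfullyFlat → Q (g.comp f) → Q f

lemma descendsEtSource_flat : DescendsEtSource @RingHom.Flat := by
  intro A B C _ _ _ f g hg hff h
  algebraize [f, g, g.comp f]
  rw [← RingHom.algebraMap_toAlgebra f, RingHom.flat_algebraMap_iff]
  exact flat_of_faithfullyFlat A B C

lemma descendsEtSource_finiteType : DescendsEtSource @RingHom.FiniteType := by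
  intro A B C _ _ _ f g hg hff h
  algebraize [f, g, g.comp f]
  rw [← RingHom.algebraMap_toAlgebra f, RingHom.finiteType_algebraMap]
  exact finiteType_of_etale A B C

lemma descendsEtSource_finitePresentation : DescendsEtSource @RingHom.FinitePresentation := by
  intro A B C _ _ _ f g hg hff h
  algebraize [f, g, g.comp f]
  rw [← RingHom.algebraMap_toAlgebra f, RingHom.finitePresentation_algebraMap]
  exact finitePresentation_of_etale A B C

lemma descendsEtSource_formallyUnramified : DescendsEtSource @RingHom.FormallyUnramified := by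
  intro A B C _ _ _ f g hg hff h
  algebraize [f, g, g.comp f]
  rw [← RingHom.algebraMap_toAlgebra f, RingHom.formallyUnramified_algebraMap]
  exact formallyUnramified_of_etale A B C

lemma descendsEtSource_etale : DescendsEtSource @RingHom.Etale := by
  intro A B C _ _ _ f g hg hff h
  algebraize [f, g, g.comp f]
  rw [← RingHom.algebraMap_toAlgebra f, RingHom.etale_algebraMap]
  exact etale_of_etale A B C

/-- An affine etale cover of an affine scheme refining a given surjective etale map. -/
lemma exists_affine_refinement {X Y : Scheme.{u}} [IsAffine Y] (g : X ⟶ Y) [Etale g] [Surjective g] :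
    ∃ (W : Scheme.{u}) (w : W ⟶ X), IsAffine W ∧ IsZariskiLocalAtSource.{u} @Etale ∧ Etale (w ≫ g) ∧
      Surjective (w ≫ g) ∧ ∀ {Z : Scheme.{u}} (P : MorphismProperty Scheme.{u})
        [IsZariskiLocalAtSource P] (h : X ⟶ Z), P h → P (w ≫ h) := by
  let 𝒰 := X.affineCover
  obtain ⟨t, ht⟩ := isCompact_univ.elim_finite_subcover (fun i => g '' Set.range (𝒰.f i))
    (fun i => g.isOpenMap _ (𝒰.f i).isOpenEmbedding.isOpen_range)
    (fun y _ => by
      obtain ⟨x, rfl⟩ := g.surjective y
      exact Set.mem_iUnion.2 ⟨𝒰.idx x, x, 𝒰.covers x, rfl⟩)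
  let W : Scheme.{u} := ∐ fun i : t => 𝒰.X i
  let w : W ⟶ X := Sigma.desc fun i : t => 𝒰.f i
  have hloc : ∀ {Z : Scheme.{u}} (P : MorphismProperty Scheme.{u}) [IsZariskiLocalAtSource P]
      (h : X ⟶ Z), P h → P (w ≫ h) := by
    intro Z P _ h hh
    rw [IsZariskiLocalAtSource.iff_of_openCover (P := P) (sigmaOpenCover fun i : t => 𝒰.X i)]
    intro i
    have e : (sigmaOpenCover fun i : t => 𝒰.X i).f i ≫ w = 𝒰.f (i : t).1 := Sigma.ι_desc _ _
    rw [← Category.assoc, e]
    exact @IsZariskiLocalAtSource.comp P _ _ _ h _ hh (𝒰.f (i : t).1) (𝒰.map_prop _)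
  refine ⟨W, w, inferInstanceAs (IsAffine W), inferInstance, hloc @Etale g ‹_›, ⟨fun y => ?_⟩,
    fun P _ h hh => hloc P h hh⟩
  obtain ⟨i, hi, _, ⟨v, rfl⟩, rfl⟩ := Set.mem_iUnion₂.1 (ht (Set.mem_univ y))
  refine ⟨Sigma.ι (fun i : t => 𝒰.X i) ⟨i, hi⟩ v, ?_⟩
  rw [← Scheme.Hom.comp_apply, ← Category.assoc]
  exact congrArg (fun k : 𝒰.X i ⟶ X => g (k v)) (Sigma.ι_desc (fun i : t => 𝒰.f i) ⟨i, hi⟩)

/-- A Zariski local property given by a ring map property descending along faithfully flat etale maps
descends along surjective etale morphisms on the source. -/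
theorem of_precomp_etale {P : MorphismProperty Scheme.{u}}
    {Q : ∀ {R S : Type u} [CommRing R] [CommRing S], (R →+* S) → Prop} [HasRingHomProperty P Q]
    (hQ : DescendsEtSource Q) {X Y Z : Scheme.{u}} (g : X ⟶ Y) (h : Y ⟶ Z) [Etale g] [Surjective g]
    (hgh : P (g ≫ h)) : P h := by
  have := HasRingHomProperty.HasAffineProperty P
  rw [HasRingHomProperty.iff_appLE (P := P)]
  intro U V e
  have : IsAffine (V : Scheme.{u}) := V.2
  have : IsAffine (U : Scheme.{u}) := U.2
  have : Etale (g ∣_ V.1) := IsZariskiLocalAtTarget.restrict (P := @Etale) ‹_› V.1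
  have : Surjective (g ∣_ V.1) := IsZariskiLocalAtTarget.restrict (P := @Surjective) ‹_› V.1
  obtain ⟨W, w, hW, -, hw1, hw2, hloc⟩ := exists_affine_refinement (g ∣_ V.1)
  have hP1 : P (g ∣_ V.1 ≫ h.resLE U.1 V.1 e) := by
    have e1 : g ∣_ V.1 ≫ h.resLE U.1 V.1 e = (g ≫ h).resLE U.1 (g ⁻¹ᵁ V.1)
        (fun x hx => e hx) := by
      apply (cancel_mono U.1.ι).1
      rw [Category.assoc, Scheme.Hom.resLE_comp_ι, morphismRestrict_ι_assoc,
        Scheme.Hom.resLE_comp_ι]
    rw [e1]
    exact IsZariskiLocalAtSource.resLE _ hgh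
  have hP2 : P (w ≫ g ∣_ V.1 ≫ h.resLE U.1 V.1 e) := hloc P _ hP1
  rw [← Category.assoc, HasRingHomProperty.iff_of_isAffine (P := P), Scheme.Hom.comp_appTop,
    CommRingCat.hom_comp] at hP2
  have hE : (w ≫ g ∣_ V.1).appTop.hom.Etale := HasRingHomProperty.appTop (P := @Etale) _ hw1
  have hF : (w ≫ g ∣_ V.1).appTop.hom.FaithfullyFlat := by
    refine RingHom.FaithfullyFlat.iff_flat_and_comap_surjective.2
      ⟨HasRingHomProperty.appTop (P := @Flat) _ (by have := hw1; infer_instance), ?_⟩
    have : Surjective (Spec.map (w ≫ g ∣_ V.1).appTop) :=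
      (MorphismProperty.arrow_mk_iso_iff @Surjective (arrowIsoSpecΓOfIsAffine _)).1 hw2
    exact (Spec.map (w ≫ g ∣_ V.1).appTop).surjective
  have h3 := hQ _ _ hE hF hP2
  have hri : RingHom.RespectsIso Q := (HasRingHomProperty.isLocal_ringHomProperty P).respectsIso
  exact (hri.arrow_mk_iso_iff (arrowResLEAppIso h U.1 V.1 e)).1 h3

lemma flat_of_precomp {X Y Z : Scheme.{u}} (g : X ⟶ Y) (h : Y ⟶ Z) [Etale g] [Surjective g]
    [Flat (g ≫ h)] : Flat h :=
  of_precomp_etale (P := @Flat) descendsEtSource_flat g h ‹_›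

lemma locallyOfFiniteType_of_precomp {X Y Z : Scheme.{u}} (g : X ⟶ Y) (h : Y ⟶ Z) [Etale g]
    [Surjective g] [LocallyOfFiniteType (g ≫ h)] : LocallyOfFiniteType h :=
  of_precomp_etale (P := @LocallyOfFiniteType) descendsEtSource_finiteType g h ‹_›

lemma locallyOfFinitePresentation_of_precomp {X Y Z : Scheme.{u}} (g : X ⟶ Y) (h : Y ⟶ Z) [Etale g]
    [Surjective g] [LocallyOfFinitePresentation (g ≫ h)] : LocallyOfFinitePresentation h :=
  of_precomp_etale (P := @LocallyOfFinitePresentation) descendsEtSource_finitePresentation g h ‹_›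

lemma formallyUnramified_of_precomp {X Y Z : Scheme.{u}} (g : X ⟶ Y) (h : Y ⟶ Z) [Etale g]
    [Surjective g] [FormallyUnramified (g ≫ h)] : FormallyUnramified h :=
  of_precomp_etale (P := @FormallyUnramified) descendsEtSource_formallyUnramified g h ‹_›

lemma etale_of_precomp {X Y Z : Scheme.{u}} (g : X ⟶ Y) (h : Y ⟶ Z) [Etale g] [Surjective g]
    [Etale (g ≫ h)] : Etale h :=
  of_precomp_etale (P := @Etale) descendsEtSource_etale g h ‹_›

end Groth.Agent.EtDescent
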