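import Mathlib.RingTheory.Smooth.StandardSmoothOfFree
import Mathlib.RingTheory.Etale.Kaehler
import Mathlib.RingTheory.Extension.Presentation.Submersive
import Mathlib.AlgebraicGeometry.Morphisms.Smooth
import Groth.Agent.EtDescent.Scheme
/-!
Etale algebras lift along surjective ring maps; smoothness descends along etale faithfully flat maps
on the source.
-/

set_option backward.isDefEq.respectTransparency.types false

universe u

open TensorProduct MvPolynomial

namespace Groth.Agent.EtDescent

/-- An etale algebra lifts along a surjective ring map. -/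
theorem exists_etale_lift (P B C : Type u) [CommRing P] [CommRing B] [CommRing C] [Algebra P B]
    [Algebra B C] [Algebra P C] [IsScalarTower P B C] (hPB : Function.Surjective (algebraMap P B))
    [Algebra.Etale B C] :
    ∃ (Q : Type u) (_ : CommRing Q) (_ : Algebra P Q) (φ : Q →ₐ[P] C), Algebra.Etale P Q ∧
      Function.Surjective φ ∧
      RingHom.ker φ.toRingHom = (RingHom.ker (algebraMap P B)).map (algebraMap P Q) := by
  classical
  obtain ⟨ι, σ, _, _, pr, hdim⟩ :=
    (Algebra.Etale.iff_isStandardSmoothOfRelativeDimension_zero.1 ‹Algebra.Etale B C›).out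
  cases nonempty_fintype σ
  have hcard : Nat.card ι ≤ Nat.card σ := Nat.sub_eq_zero_iff_le.1 hdim
  obtain ⟨v, hv⟩ : ∃ v : σ → MvPolynomial ι P, ∀ j, MvPolynomial.map (algebraMap P B) (v j) = pr.relation j :=
    ⟨fun j => (MvPolynomial.map_surjective _ hPB (pr.relation j)).choose,
      fun j => (MvPolynomial.map_surjective _ hPB (pr.relation j)).choose_spec⟩
  let J : MvPolynomial ι P := (Matrix.of fun i j => MvPolynomial.pderiv (pr.map i) (v j)).det
  let Q₀ := MvPolynomial ι P ⧸ Ideal.span (Set.range v)
  let π₀ : MvPolynomial ι P →ₐ[P] Q₀ := Ideal.Quotient.mkₐ P _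
  let Q := Localization.Away (π₀ J)
  let φ' : MvPolynomial ι P →ₐ[P] C := MvPolynomial.aeval pr.val
  have hmap : ∀ x, φ' x = MvPolynomial.aeval pr.val (MvPolynomial.map (algebraMap P B) x) :=
    fun x => (MvPolynomial.aeval_map_algebraMap B pr.val x).symm
  have hker : RingHom.ker φ'.toRingHom =
      Ideal.span (Set.range v) ⊔ (RingHom.ker (algebraMap P B)).map MvPolynomial.C := by
    apply le_antisymm
    · intro x hx
      have h1 : MvPolynomial.map (algebraMap P B) x ∈ pr.ker := by
        rw [pr.ker_eq_ker_aeval_val, RingHom.mem_ker, ← hmap]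
        exact hx
      rw [← pr.span_range_relation_eq_ker] at h1
      have h2 : Set.range pr.relation = MvPolynomial.map (algebraMap P B) '' Set.range v := by
        rw [← Set.range_comp]; congr 1; exact funext fun j => (hv j).symm
      rw [h2, ← Ideal.map_span, Ideal.mem_map_iff_of_surjective _ (MvPolynomial.map_surjective _ hPB)] at h1
      obtain ⟨y, hy, hyx⟩ := h1
      rw [show x = y + (x - y) by ring]
      refine Ideal.add_mem _ (Ideal.mem_sup_left hy) (Ideal.mem_sup_right ?_)
      rw [← MvPolynomial.ker_map, RingHom.mem_ker, map_sub, hyx, sub_self]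
    · refine sup_le (Ideal.span_le.2 ?_) (Ideal.map_le_iff_le_comap.2 ?_)
      · rintro _ ⟨j, rfl⟩
        have := pr.relation_mem_ker j
        rw [pr.ker_eq_ker_aeval_val, RingHom.mem_ker, ← hv, ← hmap] at this
        exact this
      · intro a ha
        simp [φ', IsScalarTower.algebraMap_apply P B C, RingHom.mem_ker.1 ha]
  have hJ : IsUnit (φ' J) := by
    have h := pr.jacobian_isUnit
    have e : pr.jacobiMatrix =
        (MvPolynomial.map (algebraMap P B)).mapMatrix (Matrix.of fun i j => MvPolynomial.pderiv (pr.map i) (v j)) := by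
      refine Matrix.ext fun i j => ?_
      rw [pr.jacobiMatrix_apply, RingHom.mapMatrix_apply, Matrix.map_apply, Matrix.of_apply,
        ← MvPolynomial.pderiv_map, hv]
    rw [pr.jacobian_eq_jacobiMatrix_det, e, ← RingHom.map_det, pr.algebraMap_apply, ← hmap] at h
    exact h
  let φ₀ : Q₀ →ₐ[P] C := Ideal.Quotient.liftₐ _ φ' fun a ha =>
    hker.ge (Ideal.mem_sup_left ha)
  let φ : Q →ₐ[P] C := IsLocalization.liftAlgHom (M := Submonoid.powers (π₀ J)) (f := φ₀) (by
    rintro ⟨_, n, rfl⟩
    rw [map_pow]
    exact hJ.pow n)
  have hφ : ∀ x, φ (algebraMap Q₀ Q x) = φ₀ x := fun x => IsLocalization.lift_eq _ x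
  refine ⟨Q, inferInstance, inferInstance, φ, ?_, ?_, ?_⟩
  · rw [Algebra.Etale.iff_isStandardSmoothOfRelativeDimension_zero]
    let p₀ : Algebra.PreSubmersivePresentation P Q₀ ι σ :=
      Algebra.PreSubmersivePresentation.naive (v := v) pr.map pr.map_inj
    let pl := Algebra.PreSubmersivePresentation.localizationAway Q (π₀ J)
    have hu : IsUnit (pl.comp p₀).jacobian := by
      rw [Algebra.PreSubmersivePresentation.comp_jacobian_eq_jacobian_smul_jacobian,
        Algebra.smul_def, IsUnit.mul_iff]
      have hj : p₀.jacobian = π₀ J := by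
        have e : p₀.jacobiMatrix = Matrix.of fun i j => MvPolynomial.pderiv (pr.map i) (v j) := by
          refine Matrix.ext fun i j => ?_
          rw [p₀.jacobiMatrix_apply]
          rfl
        rw [p₀.jacobian_eq_jacobiMatrix_det, e, p₀.algebraMap_apply]
        exact (congrArg (fun f : MvPolynomial ι P →ₐ[P] Q₀ => f J)
          (MvPolynomial.algHom_ext (f := MvPolynomial.aeval p₀.val) (g := π₀) fun i => by
            rw [MvPolynomial.aeval_X]; rfl) : _)
      refine ⟨?_, (Algebra.SubmersivePresentation.localizationAway Q (π₀ J)).jacobian_isUnit⟩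
      rw [hj]
      exact IsLocalization.Away.algebraMap_isUnit _
    refine ⟨⟨_, _, inferInstance, inferInstance, ⟨pl.comp p₀, hu⟩, ?_⟩⟩
    change Nat.card (Unit ⊕ ι) - Nat.card (Unit ⊕ σ) = 0
    rw [Nat.card_sum, Nat.card_sum]
    omega
  · intro c
    obtain ⟨x, rfl⟩ := pr.algebraMap_surjective c
    obtain ⟨y, rfl⟩ := MvPolynomial.map_surjective _ hPB x
    exact ⟨algebraMap Q₀ Q (π₀ y), by rw [hφ, pr.algebraMap_apply, ← hmap]; rfl⟩
  · apply le_antisymm
    · intro q hq
      obtain ⟨x, ⟨_, n, rfl⟩, rfl⟩ := IsLocalization.exists_mk'_eq (Submonoid.powers (π₀ J)) q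
      obtain ⟨y, rfl⟩ := Ideal.Quotient.mkₐ_surjective P (Ideal.span (Set.range v)) x
      have h1 : φ' y = 0 := by
        have := congrArg (· * φ (algebraMap Q₀ Q (π₀ J ^ n))) (RingHom.mem_ker.1 hq)
        dsimp only at this
        rw [zero_mul] at this
        change φ _ * _ = 0 at this
        rw [← map_mul, IsLocalization.mk'_spec, hφ] at this
        exact this
      have h2 : y ∈ Ideal.span (Set.range v) ⊔ (RingHom.ker (algebraMap P B)).map MvPolynomial.C :=
        hker.le h1
      rw [Submodule.mem_sup] at h2
      obtain ⟨a, ha, b, hb, rfl⟩ := h2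
      rw [IsLocalization.mk'_eq_mul_mk'_one]
      refine Ideal.mul_mem_right _ _ ?_
      rw [map_add, show (Ideal.Quotient.mkₐ P (Ideal.span (Set.range v))) a = 0 from
        Ideal.Quotient.eq_zero_iff_mem.2 ha, zero_add]
      have : (RingHom.ker (algebraMap P B)).map (algebraMap P Q) =
          ((RingHom.ker (algebraMap P B)).map MvPolynomial.C).map
            ((algebraMap Q₀ Q).comp π₀.toRingHom) := by
        rw [Ideal.map_map]
        congr 1
      rw [this]
      exact Ideal.mem_map_of_mem _ hb
    · rw [Ideal.map_le_iff_le_comap]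
      intro a ha
      rw [Ideal.mem_comap, RingHom.mem_ker]
      change φ _ = 0
      rw [AlgHom.commutes, IsScalarTower.algebraMap_apply P B C, RingHom.mem_ker.1 ha, map_zero]

theorem smooth_of_etale (A B C : Type u) [CommRing A] [CommRing B] [CommRing C]
    [Algebra A B] [Algebra B C] [Algebra A C] [IsScalarTower A B C] [Algebra.Etale B C]
    [Module.FaithfullyFlat B C] [Algebra.Smooth A C] : Algebra.Smooth A B := by
  have := finitePresentation_of_etale A B C
  refine ⟨?_, inferInstance⟩
  rw [Algebra.formallySmooth_iff]
  constructor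
  · haveI : Module.Flat C (C ⊗[B] Ω[B⁄A]) :=
      .of_linearEquiv (KaehlerDifferential.tensorKaehlerEquivOfFormallyEtale A B C)
    haveI : Module.Flat B Ω[B⁄A] := Module.Flat.of_flat_tensorProduct _ _ C
    exact Module.Flat.projective_of_finitePresentation
  · let P : Algebra.Extension A B := (Algebra.Generators.self A B).toExtension
    letI : Algebra P.Ring C := ((algebraMap B C).comp (algebraMap P.Ring B)).toAlgebra
    haveI : IsScalarTower P.Ring B C := .of_algebraMap_eq' rfl
    haveI : IsScalarTower A P.Ring C := .of_algebraMap_eq fun a => by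
      rw [IsScalarTower.algebraMap_apply A B C, IsScalarTower.algebraMap_apply A P.Ring B]
      rfl
    obtain ⟨Q, _, _, φ, hEt, hsurj, hker⟩ := exists_etale_lift P.Ring B C P.algebraMap_surjective
    letI : Algebra A Q := ((algebraMap P.Ring Q).comp (algebraMap A P.Ring)).toAlgebra
    haveI : IsScalarTower A P.Ring Q := .of_algebraMap_eq' rfl
    let E : Algebra.Extension A C := .ofSurjective (φ.restrictScalars A) hsurj
    let f : P.Hom E :=
    { toRingHom := algebraMap P.Ring Q
      toRingHom_algebraMap x := rfl
      algebraMap_toRingHom x := φ.commutes x }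
    haveI : Algebra.FormallySmooth A P.Ring := by
      change Algebra.FormallySmooth A (MvPolynomial B A)
      infer_instance
    haveI : Algebra.FormallySmooth A E.Ring := .comp A P.Ring Q
    letI : Algebra P.Ring E.Ring := (inferInstance : Algebra P.Ring Q)
    haveI : Module.Flat P.Ring Q := inferInstance
    have e := (Algebra.Extension.tensorH1CotangentOfFormallyEtale (T := C) f rfl
      (RingHom.formallyEtale_algebraMap.mpr (inferInstance : Algebra.FormallyEtale P.Ring Q)) ?_) ≪≫ₗ
      Algebra.Extension.equivH1CotangentOfFormallySmooth E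
    · haveI : Subsingleton (C ⊗[B] Algebra.H1Cotangent A B) := e.toEquiv.subsingleton
      exact Module.FaithfullyFlat.lTensor_reflects_triviality B C _
    · haveI : Module.Flat P.Ring E.Ring := (inferInstance : Module.Flat P.Ring Q)
      constructor
      · intro x y hxy
        apply (Module.Flat.lTensor_preserves_injective_linearMap (M := E.Ring) (Submodule.subtype P.ker) Subtype.val_injective)
        apply (TensorProduct.rid P.Ring E.Ring).injective
        have key : ∀ z : E.Ring ⊗[P.Ring] P.ker, TensorProduct.rid P.Ring E.Ring ((Submodule.subtype P.ker).lTensor E.Ring z) =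
            E.ker.subtype ((f.mapKer rfl).liftBaseChange E.Ring z) := by
          intro z
          induction z using TensorProduct.induction_on with
          | zero => simp only [map_zero]
          | tmul q a =>
            simp only [LinearMap.lTensor_tmul, TensorProduct.rid_tmul, LinearMap.liftBaseChange_tmul]
            rw [Algebra.smul_def, mul_comm]
            rfl
          | add a b ha hb =>
            simp only [map_add, ha, hb]
        rw [key, key]
        exact congrArg Subtype.val hxy
      · rintro ⟨q, hq⟩
        have hq' : q ∈ (P.ker).map (algebraMap P.Ring Q) := hker.le hq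
        induction hq' using Submodule.span_induction with
        | mem q hq' =>
          obtain ⟨a, ha, rfl⟩ := hq'
          refine ⟨(1 : E.Ring) ⊗ₜ ⟨a, ha⟩, Subtype.ext ?_⟩
          rw [LinearMap.liftBaseChange_tmul, one_smul]
          rfl
        | zero => exact ⟨0, map_zero _⟩
        | add a b ha hb iha ihb =>
          obtain ⟨x, hx⟩ := iha (hker.ge ha)
          obtain ⟨y, hy⟩ := ihb (hker.ge hb)
          exact ⟨x + y, Subtype.ext (by rw [map_add, hx, hy]; rfl)⟩
        | smul r a ha iha =>
          obtain ⟨x, hx⟩ := iha (hker.ge ha)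
          exact ⟨(show E.Ring from r) • x, Subtype.ext (by rw [map_smul, hx]; rfl)⟩

lemma descendsEtSource_smooth : DescendsEtSource @RingHom.Smooth := by
  intro A B C _ _ _ f g hg hff h
  algebraize [f, g, g.comp f]
  rw [← RingHom.algebraMap_toAlgebra f, RingHom.smooth_algebraMap]
  exact smooth_of_etale A B C

open CategoryTheory AlgebraicGeometry in
lemma smooth_of_precomp {X Y Z : Scheme.{u}} (g : X ⟶ Y) (h : Y ⟶ Z) [Etale g] [Surjective g]
    [Smooth (g ≫ h)] : Smooth h :=
  of_precomp_etale (P := @Smooth) descendsEtSource_smooth g h ‹_›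

end Groth.Agent.EtDescent
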